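import Mathlib.LinearAlgebra.Semisimple
import Mathlib.LinearAlgebra.Eigenspace.Semisimple
import Mathlib.LinearAlgebra.Eigenspace.Basic
import Mathlib.LinearAlgebra.Matrix.Charpoly.Basic
import Mathlib.LinearAlgebra.Charpoly.ToMatrix
import Mathlib.RingTheory.MatrixAlgebra
import Mathlib.RingTheory.Flat.Basic
import Mathlib.LinearAlgebra.TensorProduct.Tower
import Mathlib.FieldTheory.Perfect
import Mathlib.FieldTheory.IsAlgClosed.AlgebraicClosure
import Mathlib.Algebra.Polynomial.Splits
import Mathlib.LinearAlgebra.Dimension.Constructions

/-!
The dimension of the centralizer of a semisimple endomorphism depends only on its characteristic polynomial.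
-/

noncomputable section

set_option linter.unusedSectionVars false
set_option linter.style.haveILetI false

open Polynomial (aeval)
open scoped TensorProduct

namespace Groth.Agent.AVFrob

/-- The commutator with an element. -/
def adL (R : Type*) {A : Type*} [CommRing R] [Ring A] [Algebra R A] (x : A) : A →ₗ[R] A :=
  LinearMap.mulLeft R x - LinearMap.mulRight R x

theorem adL_apply {R A : Type*} [CommRing R] [Ring A] [Algebra R A] (x y : A) : adL R x y = x * y - y * x := rfl

/-- The centralizer dimension is invariant under algebra isomorphisms. -/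
theorem finrank_ker_adL_congr {R A B : Type*} [CommRing R] [Ring A] [Algebra R A] [Ring B] [Algebra R B]
    (e : A ≃ₐ[R] B) (x : A) :
    Module.finrank R (LinearMap.ker (adL R (e x))) = Module.finrank R (LinearMap.ker (adL R x)) := by
  refine (LinearEquiv.ofSubmodules e.toLinearEquiv _ _ ?_).finrank_eq.symm
  ext y
  constructor
  · rintro ⟨z, hz, rfl⟩
    simp only [SetLike.mem_coe, LinearMap.mem_ker, adL_apply] at hz ⊢
    show e x * e z - e z * e x = 0
    rw [← map_mul, ← map_mul, ← map_sub, hz, map_zero]
  · intro hy
    refine ⟨e.symm y, ?_, e.apply_symm_apply y⟩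
    simp only [SetLike.mem_coe, LinearMap.mem_ker, adL_apply] at hy ⊢
    refine e.injective ?_
    rw [map_sub, map_mul, map_mul, e.apply_symm_apply, map_zero, hy]

/-- The dimension of a kernel is invariant under field extension. -/
theorem finrank_ker_baseChange (K L : Type*) [Field K] [Field L] [Algebra K L] {M N : Type*} [AddCommGroup M]
    [Module K M] [AddCommGroup N] [Module K N] (f : M →ₗ[K] N) :
    Module.finrank L (LinearMap.ker (f.baseChange L)) = Module.finrank K (LinearMap.ker f) := by
  have hex := Module.Flat.lTensor_exact (R := K) L (LinearMap.exact_subtype_ker_map f)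
  have heq : LinearMap.ker (f.baseChange L) = LinearMap.range ((LinearMap.ker f).subtype.baseChange L) := by
    ext x
    exact hex x
  have hinj : Function.Injective ((LinearMap.ker f).subtype.baseChange L) :=
    Module.Flat.lTensor_preserves_injective_linearMap _ Subtype.val_injective
  rw [heq, ← (LinearEquiv.ofInjective _ hinj).finrank_eq, Module.finrank_baseChange]

/-- The centralizer dimension of a matrix is invariant under field extension. -/
theorem finrank_ker_adL_map {K L : Type*} [Field K] [Field L] [Algebra K L] {n : Type*} [Fintype n] [DecidableEq n]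
    (M : Matrix n n K) :
    Module.finrank L (LinearMap.ker (adL L (M.map (algebraMap K L)))) = Module.finrank K (LinearMap.ker (adL K M)) := by
  rw [← finrank_ker_baseChange K L (adL K M)]
  let E : L ⊗[K] Matrix n n K ≃ₐ[L] Matrix n n L :=
    AlgEquiv.ofRingEquiv (f := (matrixEquivTensor n K L).symm.toRingEquiv) fun c => by
      show (matrixEquivTensor n K L).symm (c ⊗ₜ 1) = _
      rw [matrixEquivTensor_apply_symm, Matrix.algebraMap_eq_diagonal]
      ext i j
      by_cases h : i = j <;> simp [Matrix.diagonal, h]
  have hE : ∀ (c : L) (X : Matrix n n K), E (c ⊗ₜ X) = c • X.map (algebraMap K L) := fun c X => by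
    show (matrixEquivTensor n K L).symm (c ⊗ₜ X) = _
    rw [matrixEquivTensor_apply_symm]
  rw [show M.map (algebraMap K L) = E (1 ⊗ₜ M) by rw [hE, one_smul], finrank_ker_adL_congr E]
  have : adL L ((1 : L) ⊗ₜ[K] M) = (adL K M).baseChange L := by
    ext X
    simp [adL_apply, Algebra.TensorProduct.tmul_mul_tmul, TensorProduct.tmul_sub]
  exact congrArg (fun φ => Module.finrank L (LinearMap.ker φ)) this

/-- The centralizer of a diagonal matrix. -/
theorem finrank_ker_adL_diagonal {L : Type*} [Field L] [DecidableEq L] {n : Type*} [Fintype n] [DecidableEq n]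
    (d : n → L) :
    Module.finrank L (LinearMap.ker (adL L (Matrix.diagonal d))) =
      ((Finset.univ.val.map d).map fun x => (Finset.univ.val.map d).count x).sum := by
  classical
  let S := {p : n × n // d p.1 = d p.2}
  let ι : (S → L) →ₗ[L] Matrix n n L :=
    { toFun := fun f => Matrix.of fun i j => if h : d i = d j then f ⟨(i, j), h⟩ else 0
      map_add' := fun f g => by ext i j; by_cases h : d i = d j <;> simp [h]
      map_smul' := fun c f => by ext i j; by_cases h : d i = d j <;> simp [h] }
  have hι : Function.Injective ι := by
    intro f g h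
    funext ⟨⟨i, j⟩, hij⟩
    have := congrFun (congrFun h i) j
    have hij' : d i = d j := hij
    simpa [ι, hij'] using this
  have hr : LinearMap.range ι = LinearMap.ker (adL L (Matrix.diagonal d)) := by
    ext X
    rw [LinearMap.mem_ker, adL_apply]
    constructor
    · rintro ⟨f, rfl⟩
      ext i j
      simp only [Matrix.sub_apply, Matrix.diagonal_mul, Matrix.mul_diagonal, Matrix.zero_apply]
      by_cases h : d i = d j
      · rw [h]; ring
      · simp [ι, h]
    · intro h
      refine ⟨fun p => X p.1.1 p.1.2, ?_⟩
      ext i j
      by_cases hd : d i = d j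
      · simp [ι, hd]
      · have h' := congrFun (congrFun h i) j
        simp only [Matrix.sub_apply, Matrix.diagonal_mul, Matrix.mul_diagonal, Matrix.zero_apply] at h'
        have h'' : (d i - d j) * X i j = 0 := by rw [← h']; ring
        simp [ι, hd, (mul_eq_zero.1 h'').resolve_left (sub_ne_zero.2 hd)]
  rw [← hr, ← (LinearEquiv.ofInjective ι hι).finrank_eq, Module.finrank_pi]
  rw [Fintype.card_subtype, Multiset.map_map]
  rw [Finset.card_filter, ← Finset.univ_product_univ, Finset.sum_product]
  refine Finset.sum_congr rfl fun i _ => ?_
  show _ = (Finset.univ.val.map d).count (d i)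
  rw [Multiset.count_map, ← Finset.card_filter]
  rfl

/-- Over an algebraically closed field semisimple endomorphisms are diagonal in some basis. -/
theorem exists_diagonal_basis {L : Type*} [Field L] [IsAlgClosed L] {V : Type*} [AddCommGroup V] [Module L V]
    [FiniteDimensional L V] {f : Module.End L V} (hf : f.IsSemisimple) :
    ∃ (m : ℕ) (b : Module.Basis (Fin m) L V) (d : Fin m → L),
      LinearMap.toMatrix b b f = Matrix.diagonal d := by
  classical
  have hind : DirectSum.IsInternal f.eigenspace :=
    DirectSum.isInternal_submodule_of_iSupIndep_of_iSup_eq_top f.eigenspaces_iSupIndep hf.iSup_eigenspace_eq_top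
  let bb := hind.collectedBasis fun μ => Module.finBasis L (f.eigenspace μ)
  haveI := FiniteDimensional.fintypeBasisIndex bb
  let e := Fintype.equivFin ((μ : L) × Fin (Module.finrank L (f.eigenspace μ)))
  refine ⟨_, bb.reindex e, fun i => (e.symm i).1, ?_⟩
  ext i j
  rw [LinearMap.toMatrix_apply]
  have hj : f (bb.reindex e j) = (e.symm j).1 • bb.reindex e j := by
    rw [bb.reindex_apply]
    exact Module.End.mem_eigenspace_iff.1
      (hind.collectedBasis_mem (fun μ => Module.finBasis L (f.eigenspace μ)) (e.symm j))
  rw [hj, map_smul, Finsupp.smul_apply, (bb.reindex e).repr_self, Finsupp.single_apply, Matrix.diagonal_apply]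
  by_cases h : j = i
  · subst h; simp
  · simp [h, Ne.symm h]

/-- The centralizer dimension is the sum of the multiplicities of the roots of the characteristic polynomial. -/
theorem finrank_ker_adL_eq {K L : Type*} [Field K] [PerfectField K] [Field L] [Algebra K L] [IsAlgClosed L]
    [DecidableEq L] {V : Type*} [AddCommGroup V] [Module K V] [FiniteDimensional K V] {f : Module.End K V}
    (hf : f.IsSemisimple) :
    Module.finrank K (LinearMap.ker (adL K f)) =
      ((f.charpoly.map (algebraMap K L)).roots.map fun x => (f.charpoly.map (algebraMap K L)).roots.count x).sum := by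
  classical
  let b := Module.finBasis K V
  let M := LinearMap.toMatrix b b f
  rw [← finrank_ker_adL_congr (LinearMap.toMatrixAlgEquiv b) f, show LinearMap.toMatrixAlgEquiv b f = M from rfl,
    ← finrank_ker_adL_map (L := L) M]
  let g : Module.End L (Fin (Module.finrank K V) → L) := Matrix.toLinAlgEquiv' (M.map (algebraMap K L))
  have hgs : g.IsSemisimple := by
    have hsf : Squarefree ((minpoly K f).map (algebraMap K L)) :=
      ((PerfectField.separable_iff_squarefree.2 hf.minpoly_squarefree).map).squarefree
    refine Module.End.isSemisimple_of_squarefree_aeval_eq_zero hsf ?_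
    show aeval (Matrix.toLinAlgEquiv' (M.map (algebraMap K L))) ((minpoly K f).map (algebraMap K L)) = 0
    rw [Polynomial.aeval_algEquiv, AlgHom.comp_apply, Polynomial.aeval_map_algebraMap]
    have h2 : aeval (M.map (algebraMap K L)) (minpoly K f) = 0 := by
      rw [show M.map (algebraMap K L) = (Algebra.ofId K L).mapMatrix M from rfl, Polynomial.aeval_algHom_apply,
        show M = LinearMap.toMatrixAlgEquiv b f from rfl, Polynomial.aeval_algEquiv, AlgHom.comp_apply, minpoly.aeval]
      simp
    rw [h2]
    simp
  obtain ⟨m, bb, d, hd⟩ := exists_diagonal_basis hgs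
  have h1 : Module.finrank L (LinearMap.ker (adL L (M.map (algebraMap K L)))) =
      Module.finrank L (LinearMap.ker (adL L (Matrix.diagonal d))) := by
    rw [← finrank_ker_adL_congr (Matrix.toLinAlgEquiv' (R := L)) (M.map (algebraMap K L)),
      ← finrank_ker_adL_congr (LinearMap.toMatrixAlgEquiv bb) (Matrix.toLinAlgEquiv' (M.map (algebraMap K L))),
      show LinearMap.toMatrixAlgEquiv bb g = Matrix.diagonal d from hd]
  have h2 : f.charpoly.map (algebraMap K L) = ∏ i, (Polynomial.X - Polynomial.C (d i)) := by
    rw [← Matrix.charpoly_diagonal, ← hd, LinearMap.charpoly_toMatrix, ← LinearMap.charpoly_toMatrix f b,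
      ← Matrix.charpoly_map, ← Matrix.charpoly_toLin']
    rfl
  rw [h1, finrank_ker_adL_diagonal, h2]
  have h3 : (∏ i, (Polynomial.X - Polynomial.C (d i))).roots = Finset.univ.val.map d := by
    rw [Finset.prod_eq_multiset_prod,
      show (fun i => Polynomial.X - Polynomial.C (d i)) = (fun x => Polynomial.X - Polynomial.C x) ∘ d from rfl,
      ← Multiset.map_map (fun x => Polynomial.X - Polynomial.C x) d]
    exact Polynomial.roots_multiset_prod_X_sub_C _
  rw [h3]

end Groth.Agent.AVFrob
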