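import Groth.Agent.AVFrob.Comm
import Groth.Agent.AVDeg3.SimpleCharPoly
import Groth.Agent.AVTrace.Poincare
import Mathlib.LinearAlgebra.Semisimple

/-!
Central endomorphisms act semisimply.
-/

noncomputable section

set_option linter.style.haveILetI false
set_option linter.unusedSectionVars false
set_option backward.isDefEq.respectTransparency false
set_option backward.isDefEq.respectTransparency.types false
set_option synthInstance.maxHeartbeats 400000
set_option maxHeartbeats 800000

universe u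

open CategoryTheory CategoryTheory.Limits MonoidalCategory CartesianMonoidalCategory MonObj GrpObj AlgebraicGeometry
open Polynomial (aeval)
open scoped TensorProduct

namespace Groth.Agent.AVFrob

variable {k : Type u} [Field k] {A : Over (Spec (CommRingCat.of k))}
  [GrpObj A] [IsCommMonObj A] [IsProper A.hom] [GeometricallyIntegral A.hom]

theorem eq_zero_of_smul_eq_zero {m : ℤ} (hm : m ≠ 0) {x : EndAV.End A} (h : m • x = 0) : x = 0 := by
  haveI : Module.Free ℤ (EndAV.End A) := (AVIdx.finite_free_hom A A).2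
  exact (smul_eq_zero.1 h).resolve_left hm

theorem toEnd0_eq_zero {x : EndAV.End A} (h : EndAV.toEnd0 x = 0) : x = 0 := by
  obtain ⟨m, hm, hmx⟩ := AVDeg3.exists_smul_eq_zero_of_tmul_eq_zero ((EndAV.toEnd0_apply x).symm.trans h)
  exact eq_zero_of_smul_eq_zero hm hmx

/-- A central endomorphism with square zero is zero. -/
theorem eq_zero_of_central_sq (φ : EndAV.End A) (hc : ∀ h : EndAV.End A, h * φ = φ * h) (hsq : φ * φ = 0) : φ = 0 := by
  let f := EndAV.End.toHom φ
  obtain ⟨N, _, _, _, j, q, _, _, _, hq, hqj⟩ := AVIsog3.exists_image_factor f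
  haveI : IsCommMonObj N := isCommMonObj_of_isProper_of_geometricallyIntegral N
  obtain ⟨C, _, _, _, j', r, q', d, hd, _, _, _, _, _, hri, -, -⟩ := AVTrace.exists_complement_data j
  haveI : IsMonHom (r ≫ j) := inferInstance
  let h := EndAV.End.of (r ≫ j)
  have h1 : f ≫ r ≫ j = f ^ d := by
    rw [show f ≫ r ≫ j = (q ≫ j) ≫ r ≫ j by rw [hqj], Category.assoc, reassoc_of% hri, MonObj.pow_comp, Category.id_comp,
      MonObj.comp_pow, hqj]
  have hjf : j ≫ f = 1 := by
    haveI := AVIsog3.isIntegral_left A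
    haveI : IsIntegral N.left := AVIsog3.isIntegral_left N
    haveI := AVIsog3.flat_of_surjective q
    haveI := AVIsog3.lfp_left q
    haveI : Epi q.left := by
      haveI : IsProper q.left := by
        haveI : IsProper (q.left ≫ N.hom) := by rw [Over.w]; infer_instance
        exact IsProper.of_comp _ N.hom
      infer_instance
    haveI : Epi q := Over.epi_of_epi_left q
    rw [← cancel_epi q, ← Category.assoc, hqj, MonObj.comp_one]
    exact (congrArg EndAV.End.toHom hsq : f ≫ f = 1)
  have h2 : (r ≫ j) ≫ f = 1 := by rw [Category.assoc, hjf, MonObj.comp_one]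
  have h3 : (d : ℤ) • φ = 0 := by
    apply EndAV.End.ext
    rw [EndAV.End.toHom_zsmul, zpow_natCast, EndAV.End.toHom_zero, ← h1, ← h2]
    exact congrArg EndAV.End.toHom (hc h)
  exact eq_zero_of_smul_eq_zero (by exact_mod_cast hd.ne') h3

/-- A central element with square zero of the rational endomorphism algebra is zero. -/
theorem eq_zero_of_central_sq_end0 (z : EndAV.End0 A) (hc : ∀ w : EndAV.End0 A, w * z = z * w) (hsq : z * z = 0) :
    z = 0 := by
  obtain ⟨m, ψ, hm, rfl⟩ := AVIsog3.exists_eq_smul z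
  have e : ((m : ℚ)⁻¹ ⊗ₜ[ℤ] ψ : EndAV.End0 A) = (m : ℚ)⁻¹ • EndAV.toEnd0 ψ := by
    rw [EndAV.toEnd0_apply, TensorProduct.smul_tmul', smul_eq_mul, _root_.mul_one]
  have hm' : (m : ℚ)⁻¹ ≠ 0 := by positivity
  rw [e] at hsq hc ⊢
  have h1 : ψ = 0 := by
    refine eq_zero_of_central_sq ψ (fun h => ?_) ?_
    · have := hc (EndAV.toEnd0 h)
      rw [mul_smul_comm, smul_mul_assoc, ← map_mul, ← map_mul, ← sub_eq_zero, ← smul_sub, ← map_sub] at this
      exact sub_eq_zero.1 (toEnd0_eq_zero ((smul_eq_zero.1 this).resolve_left hm'))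
    · rw [smul_mul_assoc, mul_smul_comm, ← map_mul, smul_smul] at hsq
      exact toEnd0_eq_zero ((smul_eq_zero.1 hsq).resolve_left (mul_ne_zero hm' hm'))
  rw [h1, map_zero, smul_zero]

/-- The minimal polynomial of a central element is squarefree. -/
theorem squarefree_minpoly (φ : EndAV.End A) (hc : ∀ h : EndAV.End A, h * φ = φ * h) :
    Squarefree (minpoly ℚ (EndAV.toEnd0 φ)) := by
  intro a ha
  obtain ⟨b, hb⟩ := ha
  let x := EndAV.toEnd0 φ
  have hx : ∀ w : EndAV.End0 A, Commute w x := by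
    intro w
    obtain ⟨m, ψ, hm, rfl⟩ := AVIsog3.exists_eq_smul w
    have e : ((m : ℚ)⁻¹ ⊗ₜ[ℤ] ψ : EndAV.End0 A) = (m : ℚ)⁻¹ • EndAV.toEnd0 ψ := by
      rw [EndAV.toEnd0_apply, TensorProduct.smul_tmul', smul_eq_mul, _root_.mul_one]
    rw [e]
    refine Commute.smul_left ?_ _
    show EndAV.toEnd0 ψ * EndAV.toEnd0 φ = EndAV.toEnd0 φ * EndAV.toEnd0 ψ
    rw [← map_mul, ← map_mul, hc]
  have hz : aeval x (a * b) = 0 := by
    refine eq_zero_of_central_sq_end0 _ (fun w => ?_) ?_
    · exact Algebra.commute_of_mem_adjoin_singleton_of_commute (Polynomial.aeval_mem_adjoin_singleton ℚ x) (hx w)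
    · rw [← map_mul, show a * b * (a * b) = a * a * b * b by ring, ← hb, map_mul, minpoly.aeval,
        MulZeroClass.zero_mul]
  have hne : minpoly ℚ x ≠ 0 := minpoly.ne_zero (Algebra.IsIntegral.isIntegral (R := ℚ) x)
  obtain ⟨c, hc'⟩ := minpoly.dvd ℚ x hz
  rw [show minpoly ℚ (EndAV.toEnd0 φ) = minpoly ℚ x from rfl] at hb
  have hab : a * b ≠ 0 := fun h => hne (by rw [hb, _root_.mul_assoc a a b, h, MulZeroClass.mul_zero])
  refine IsUnit.of_mul_eq_one c (mul_left_cancel₀ hab ?_)
  rw [_root_.mul_one]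
  calc (a * b) * (a * c) = (a * a * b) * c := by ring
    _ = a * b := by rw [← hb, ← hc']

/-- Central endomorphisms act semisimply on rational Tate modules. -/
theorem isSemisimple_tate (φ : EndAV.End A) (hc : ∀ h : EndAV.End A, h * φ = φ * h) (l : ℕ) [Fact l.Prime]
    (T : Over (Spec (CommRingCat.of k))) :
    Module.End.IsSemisimple ((EndAV.End.tateRep l T φ).baseChange ℚ_[l]) := by
  let p := minpoly ℚ (EndAV.toEnd0 φ)
  let G := IsLocalization.integerNormalization (nonZeroDivisors ℤ) p
  obtain ⟨b, hb, hG⟩ := IsLocalization.integerNormalization_spec (nonZeroDivisors ℤ) (S := ℚ) p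
  have hG0 : aeval φ G = 0 := by
    refine toEnd0_eq_zero ?_
    rw [← Polynomial.aeval_algHom_apply, ← Polynomial.aeval_map_algebraMap ℚ (EndAV.toEnd0 φ) G, hG,
      map_zsmul, minpoly.aeval, smul_zero]
  have hsf : Squarefree (G.map (algebraMap ℤ ℚ)) := by
    rw [hG]
    have hu : IsUnit (Polynomial.C (b : ℚ)) :=
      Polynomial.isUnit_C.2 (isUnit_iff_ne_zero.2 (Int.cast_ne_zero.2 (nonZeroDivisors.ne_zero hb)))
    have h : (b : ℤ) • p = Polynomial.C (b : ℚ) * p := by
      rw [zsmul_eq_mul, map_intCast]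
    rw [h]
    exact (squarefree_minpoly φ hc).squarefree_of_dvd (Associated.dvd (by
      exact (associated_isUnit_mul_left_iff hu).2 (Associated.refl p)))
  have hsf' : Squarefree (G.map (algebraMap ℤ ℚ_[l])) := by
    have e : G.map (algebraMap ℤ ℚ_[l]) = (G.map (algebraMap ℤ ℚ)).map (algebraMap ℚ ℚ_[l]) := by
      rw [Polynomial.map_map]
      exact congrArg (fun r => G.map r) (RingHom.ext_int _ _)
    rw [e]
    exact (((PerfectField.separable_iff_squarefree).2 hsf).map).squarefree
  refine Module.End.isSemisimple_of_squarefree_aeval_eq_zero hsf' ?_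
  let τ : EndAV.End A →+* Module.End ℚ_[l] (ℚ_[l] ⊗[ℤ_[l]] AbDual.TateMod A l T) :=
    (Module.End.baseChangeHom ℤ_[l] ℚ_[l] (AbDual.TateMod A l T)).toRingHom.comp (EndAV.End.tateRep l T)
  show aeval (τ φ) (G.map (algebraMap ℤ ℚ_[l])) = 0
  have h := congrArg τ hG0
  rw [map_zero, Polynomial.aeval_def, Polynomial.hom_eval₂] at h
  rw [Polynomial.aeval_def, Polynomial.eval₂_map]
  exact (congrArg (fun r => Polynomial.eval₂ r (τ φ) G) (RingHom.ext_int _ _)).trans h

end Groth.Agent.AVFrob
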