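import Groth.Agent.AVFrob.Centralizer
import Groth.Agent.AVFrob.Semisimple
import Groth.Agent.AVDeg3.CharPolyBc
import Mathlib.LinearAlgebra.Charpoly.BaseChange
import Mathlib.FieldTheory.IsAlgClosed.Basic

/-!
Centralizers of semisimple endomorphisms with the same rational characteristic polynomial.
-/

noncomputable section

set_option linter.style.haveILetI false
set_option linter.unusedSectionVars false
set_option synthInstance.maxHeartbeats 400000
set_option maxHeartbeats 800000

open scoped TensorProduct

namespace Groth.Agent.AVFrob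

/-- The number of equal pairs of roots, in a fixed algebraic closure of the rationals. -/
def rootPairs (P : Polynomial ℤ) : ℕ :=
  haveI := Classical.decEq (AlgebraicClosure ℚ)
  (((P.map (algebraMap ℤ (AlgebraicClosure ℚ))).roots.map fun x =>
    (P.map (algebraMap ℤ (AlgebraicClosure ℚ))).roots.count x)).sum

/-- The centralizer dimension of a semisimple endomorphism with integral characteristic polynomial. -/
theorem finrank_centralizer_eq {K : Type} [Field K] [CharZero K] {V : Type*} [AddCommGroup V] [Module K V]
    [FiniteDimensional K V] {f : Module.End K V} (hf : f.IsSemisimple) {P : Polynomial ℤ}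
    (hP : f.charpoly = P.map (algebraMap ℤ K)) :
    Module.finrank K (LinearMap.ker (LinearMap.lcomp K _ f - LinearMap.llcomp K _ _ _ f :
      Module.End K V →ₗ[K] Module.End K V)) = rootPairs P := by
  classical
  have hker : LinearMap.ker (LinearMap.lcomp K _ f - LinearMap.llcomp K _ _ _ f :
      Module.End K V →ₗ[K] Module.End K V) = LinearMap.ker (adL K f) := by
    ext g
    rw [LinearMap.mem_ker, LinearMap.mem_ker, adL_apply, sub_eq_zero]
    show (LinearMap.lcomp K _ f g - LinearMap.llcomp K _ _ _ f g = 0) ↔ _
    rw [sub_eq_zero]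
    exact eq_comm
  rw [hker, finrank_ker_adL_eq (L := AlgebraicClosure K) hf, hP, Polynomial.map_map]
  haveI : Algebra.IsAlgebraic ℚ (AlgebraicClosure ℚ) := by
    convert AlgebraicClosure.isAlgebraic ℚ
    all_goals first | rfl | exact Subsingleton.elim _ _
  let ι : AlgebraicClosure ℚ →+* AlgebraicClosure K :=
    (IsAlgClosed.lift (R := ℚ) (S := AlgebraicClosure ℚ) (M := AlgebraicClosure K)).toRingHom
  rw [show (algebraMap K (AlgebraicClosure K)).comp (algebraMap ℤ K) = ι.comp (algebraMap ℤ (AlgebraicClosure ℚ)) from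
    RingHom.ext_int _ _, ← Polynomial.map_map,
    (IsAlgClosed.splits (P.map (algebraMap ℤ (AlgebraicClosure ℚ)))).roots_map_of_injective ι.injective,
    Multiset.map_map, rootPairs]
  refine congrArg Multiset.sum (Multiset.map_congr rfl fun x _ => ?_)
  exact (Multiset.count_map_eq_count' ι _ ι.injective x).trans (by congr 1)

section AV

universe u

open CategoryTheory CategoryTheory.Limits MonoidalCategory CartesianMonoidalCategory MonObj GrpObj AlgebraicGeometry

variable {k : Type u} [Field k] {A : Over (Spec (CommRingCat.of k))}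
  [GrpObj A] [IsCommMonObj A] [IsProper A.hom] [GeometricallyIntegral A.hom] (Ω : Type u) [Field Ω] [Algebra k Ω]

set_option backward.isDefEq.respectTransparency false in
set_option backward.isDefEq.respectTransparency.types false in
/-- The centralizer of a central endomorphism on a rational Tate module. -/
theorem finrank_centralizer_of_central (φ : EndAV.End A) (hc : ∀ h : EndAV.End A, h * φ = φ * h) (l : ℕ)
    [Fact l.Prime] {P : Polynomial ℤ}
    [Module.Free ℤ_[l] (AbDual.TateMod A l (Over.mk (AVIdx.fieldMap (k := k) Ω)))]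
    [Module.Finite ℤ_[l] (AbDual.TateMod A l (Over.mk (AVIdx.fieldMap (k := k) Ω)))]
    (hP : (EndAV.End.tateRep l (Over.mk (AVIdx.fieldMap (k := k) Ω)) φ).charpoly = P.map (Int.castRingHom ℤ_[l])) :
    Module.finrank ℚ_[l] (LinearMap.ker (LinearMap.lcomp ℚ_[l] _
          ((EndAV.End.tateRep l (Over.mk (AVIdx.fieldMap (k := k) Ω)) φ).baseChange ℚ_[l]) -
        LinearMap.llcomp ℚ_[l] _ _ _ ((EndAV.End.tateRep l (Over.mk (AVIdx.fieldMap (k := k) Ω)) φ).baseChange ℚ_[l]) :
      Module.End ℚ_[l] (ℚ_[l] ⊗[ℤ_[l]] AbDual.TateMod A l (Over.mk (AVIdx.fieldMap (k := k) Ω))) →ₗ[ℚ_[l]]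
        Module.End ℚ_[l] (ℚ_[l] ⊗[ℤ_[l]] AbDual.TateMod A l (Over.mk (AVIdx.fieldMap (k := k) Ω))))) = rootPairs P := by
  refine finrank_centralizer_eq (isSemisimple_tate φ hc l _) ?_
  rw [LinearMap.charpoly_baseChange, hP, Polynomial.map_map]
  exact congrArg (fun r => P.map r) (RingHom.ext_int _ _)

end AV

end Groth.Agent.AVFrob
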