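import Groth.Agent.AVFrob.Semisimple
import Groth.Agent.AVIdx.TateFaith
import Mathlib.RingTheory.Artinian.Module

/-!
The rational algebra generated by a central endomorphism.
-/

noncomputable section

set_option linter.style.haveILetI false
set_option linter.unusedSectionVars false
set_option backward.isDefEq.respectTransparency false
set_option backward.isDefEq.respectTransparency.types false
set_option synthInstance.maxHeartbeats 400000
set_option maxHeartbeats 800000

universe u

open CategoryTheory CategoryTheory.Limits MonoidalCategory CartesianMonoidalCategory MonObj GrpObj AlgebraicGeometry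
open Polynomial (aeval)
open scoped TensorProduct

namespace Groth.Agent.AVFrob

theorem exists_aeval_eq {R : Type*} [Ring R] [Algebra ℚ R] {x y : R} (hy : y ∈ Algebra.adjoin ℚ {x}) :
    ∃ p : Polynomial ℚ, aeval x p = y := by
  rw [Algebra.adjoin_singleton_eq_range_aeval] at hy
  exact hy

variable {k : Type u} [Field k] {A : Over (Spec (CommRingCat.of k))}
  [GrpObj A] [IsCommMonObj A] [IsProper A.hom] [GeometricallyIntegral A.hom]

/-- A central endomorphism generates a semisimple algebra. -/
theorem isSemisimpleRing_qAdj (φ : EndAV.End A) (hc : ∀ h : EndAV.End A, h * φ = φ * h) :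
    IsSemisimpleRing (EndAV.QAdj φ) := by
  let x := EndAV.toEnd0 φ
  letI : CommRing (EndAV.QAdj φ) :=
    { (inferInstance : Ring (EndAV.QAdj φ)) with
      mul_comm := fun a b => Subtype.ext (by
        obtain ⟨p, hp⟩ := exists_aeval_eq a.2
        obtain ⟨q, hq⟩ := exists_aeval_eq b.2
        show a.1 * b.1 = b.1 * a.1
        rw [← hp, ← hq, ← map_mul, _root_.mul_comm, map_mul]) }
  haveI : IsReduced (EndAV.QAdj φ) := isReduced_iff_pow_one_lt 2 one_lt_two |>.2 fun a ha => by
    obtain ⟨p, hp⟩ := exists_aeval_eq a.2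
    apply Subtype.ext
    refine eq_zero_of_central_sq_end0 a.1 (fun w => ?_) ?_
    · rw [← hp]
      refine Algebra.commute_of_mem_adjoin_singleton_of_commute (Polynomial.aeval_mem_adjoin_singleton ℚ x) ?_
      obtain ⟨m, ψ, hm, rfl⟩ := AVIsog3.exists_eq_smul w
      show Commute _ (EndAV.toEnd0 φ)
      rw [EndAV.toEnd0_apply]
      show (_ : EndAV.End0 A) * _ = _ * _
      rw [Algebra.TensorProduct.tmul_mul_tmul, Algebra.TensorProduct.tmul_mul_tmul, hc ψ, _root_.one_mul, _root_.mul_one]
    · have h := congrArg Subtype.val ha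
      rw [pow_two] at h
      exact h
  haveI : Module.Finite ℚ (EndAV.QAdj φ) :=
    Module.Finite.of_injective (EndAV.QAdj φ).val.toLinearMap Subtype.val_injective
  haveI : IsArtinianRing (EndAV.QAdj φ) := IsArtinianRing.of_finite ℚ (EndAV.QAdj φ)
  exact IsArtinianRing.isSemisimpleRing_of_isReduced _

/-- A central endomorphism generates a field exactly if its minimal polynomial is irreducible. -/
theorem isField_qAdj_iff (φ : EndAV.End A) :
    IsField (EndAV.QAdj φ) ↔ Irreducible (minpoly ℚ (EndAV.toEnd0 φ)) := by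
  let x := EndAV.toEnd0 φ
  have hint : IsIntegral ℚ x := Algebra.IsIntegral.isIntegral x
  constructor
  · intro hF
    haveI : Nontrivial (EndAV.QAdj φ) := let ⟨a, b, hab⟩ := hF.exists_pair_ne; ⟨a, b, hab⟩
    haveI : NoZeroDivisors (EndAV.QAdj φ) := ⟨fun {a b} hab => or_iff_not_imp_left.2 fun ha => by
      obtain ⟨c, hc⟩ := hF.mul_inv_cancel ha
      have h1 : c * a = 1 := (hF.mul_comm c a).trans hc
      calc b = c * a * b := by rw [h1, _root_.one_mul]
        _ = 0 := by rw [_root_.mul_assoc, hab, MulZeroClass.mul_zero]⟩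
    haveI : IsDomain (EndAV.QAdj φ) := @NoZeroDivisors.to_isDomain (EndAV.QAdj φ) inferInstance _ _
    let x' : EndAV.QAdj φ := ⟨x, Algebra.self_mem_adjoin_singleton ℚ x⟩
    have h := minpoly.algHom_eq (EndAV.QAdj φ).val Subtype.val_injective x'
    rw [show EndAV.toEnd0 φ = (EndAV.QAdj φ).val x' from rfl, h]
    refine minpoly.irreducible ?_
    exact (isIntegral_algHom_iff (EndAV.QAdj φ).val Subtype.val_injective).1 hint
  · intro hirr
    refine ⟨⟨0, 1, fun h => ?_⟩, fun a b => ?_, fun {a} ha => ?_⟩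
    · have h' : (0 : EndAV.End0 A) = 1 := congrArg Subtype.val h
      refine hirr.not_isUnit (isUnit_of_dvd_one (minpoly.dvd ℚ x ?_))
      rw [map_one]
      exact h'.symm
    · apply Subtype.ext
      obtain ⟨p, hp⟩ := exists_aeval_eq a.2
      obtain ⟨q, hq⟩ := exists_aeval_eq b.2
      show a.1 * b.1 = b.1 * a.1
      rw [← hp, ← hq, ← map_mul, _root_.mul_comm, map_mul]
    · obtain ⟨p, hp⟩ := exists_aeval_eq a.2
      have hcop : IsCoprime p (minpoly ℚ x) := by
        refine (hirr.coprime_iff_not_dvd.2 fun hd => ha (Subtype.ext ?_)).symm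
        obtain ⟨c, rfl⟩ := hd
        rw [map_mul, minpoly.aeval, MulZeroClass.zero_mul] at hp
        exact hp.symm
      obtain ⟨u, v, huv⟩ := hcop
      refine ⟨⟨aeval x u, Polynomial.aeval_mem_adjoin_singleton ℚ x⟩, Subtype.ext ?_⟩
      show a.1 * aeval x u = 1
      have h := congrArg (aeval x) huv
      rw [map_add, map_mul, map_mul, minpoly.aeval, MulZeroClass.mul_zero, add_zero, map_one] at h
      rw [← hp, ← map_mul, _root_.mul_comm, map_mul, h]

/-- Elementarity from the characteristic polynomial. -/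
theorem isField_qAdj_iff_charpoly (Ω : Type u) [Field Ω] [Algebra k Ω] [IsAlgClosed Ω] (l : ℕ) [Fact l.Prime]
    (hl : (l : k) ≠ 0)
    [Module.Free ℤ_[l] (AbDual.TateMod A l (Over.mk (AVIdx.fieldMap (k := k) Ω)))]
    [Module.Finite ℤ_[l] (AbDual.TateMod A l (Over.mk (AVIdx.fieldMap (k := k) Ω)))]
    (φ : EndAV.End A) (hc : ∀ h : EndAV.End A, h * φ = φ * h) (P : Polynomial ℤ)
    (hP : (EndAV.End.tateRep l (Over.mk (AVIdx.fieldMap (k := k) Ω)) φ).charpoly = P.map (Int.castRingHom ℤ_[l])) :
    IsField (EndAV.QAdj φ) ↔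
      ∃ (h : Polynomial ℚ) (n : ℕ), Irreducible h ∧ 0 < n ∧ P.map (Int.castRingHom ℚ) = h ^ n := by
  classical
  rw [isField_qAdj_iff]
  let x := EndAV.toEnd0 φ
  have hPm : P.Monic := Polynomial.monic_of_injective (Int.castRingHom ℤ_[l]).injective_int (hP ▸ LinearMap.charpoly_monic _)
  have h0 : aeval φ P = 0 := by
    refine AVIdx.tateRep_injective Ω l hl A ?_
    rw [map_zero, Polynomial.aeval_def, Polynomial.hom_eval₂]
    refine Eq.trans ?_ (EndAV.End.tateRep l (Over.mk (AVIdx.fieldMap (k := k) Ω)) φ).aeval_self_charpoly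
    rw [hP, Polynomial.aeval_def, Polynomial.eval₂_map]
    exact congrArg (fun r => Polynomial.eval₂ r _ P) (RingHom.ext_int _ _)
  have hdvd : minpoly ℚ x ∣ P.map (Int.castRingHom ℚ) := by
    refine minpoly.dvd ℚ x ?_
    rw [← algebraMap_int_eq, Polynomial.aeval_map_algebraMap, Polynomial.aeval_algHom_apply, h0, map_zero]
  constructor
  · intro hirr
    let b := Module.Free.chooseBasis ℤ_[l] (AbDual.TateMod A l (Over.mk (AVIdx.fieldMap (k := k) Ω)))
    let ρ : EndAV.End A →+* Matrix _ _ ℚ_[l] :=
      ((PadicInt.Coe.ringHom (p := l)).mapMatrix).comp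
        (((LinearMap.toMatrixAlgEquiv b).toRingEquiv.toRingHom).comp
          (EndAV.End.tateRep l (Over.mk (AVIdx.fieldMap (k := k) Ω))))
    have hρ : (ρ φ).charpoly = P.map (Int.castRingHom ℚ_[l]) := by
      show ((LinearMap.toMatrix b b (EndAV.End.tateRep l (Over.mk (AVIdx.fieldMap (k := k) Ω)) φ)).map
        (PadicInt.Coe.ringHom (p := l))).charpoly = _
      rw [Matrix.charpoly_map, LinearMap.charpoly_toMatrix, hP, Polynomial.map_map]
      exact congrArg (fun r => P.map r) (RingHom.ext_int _ _)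
    have h := AVDeg3.charpoly_eq_minpoly_pow ρ φ hPm hρ hirr
    refine ⟨_, _, hirr, Nat.pos_of_ne_zero fun hn => ?_, h⟩
    rw [hn, pow_zero] at h
    exact hirr.not_isUnit (isUnit_of_dvd_one (h ▸ hdvd))
  · rintro ⟨h, n, hh, hn, hPh⟩
    have hne : minpoly ℚ x ≠ 1 := by
      intro h1
      have he : (1 : EndAV.End0 A) = 0 := by
        have h2 := minpoly.aeval ℚ x
        rwa [h1, map_one] at h2
      have : Subsingleton (EndAV.End0 A) :=
        ⟨fun a b => by rw [← _root_.mul_one a, ← _root_.mul_one b, he, MulZeroClass.mul_zero, MulZeroClass.mul_zero]⟩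
      have h3 : (1 : EndAV.End A) = 0 := toEnd0_eq_zero (Subsingleton.elim _ _)
      have h4 : (1 : Module.End ℤ_[l] (AbDual.TateMod A l (Over.mk (AVIdx.fieldMap (k := k) Ω)))) = 0 := by
        rw [← map_one (EndAV.End.tateRep l (Over.mk (AVIdx.fieldMap (k := k) Ω))), h3, map_zero]
      haveI : Subsingleton (AbDual.TateMod A l (Over.mk (AVIdx.fieldMap (k := k) Ω))) :=
        ⟨fun a b => (LinearMap.congr_fun h4 a).trans (LinearMap.congr_fun h4 b).symm⟩
      have hP1 : P = 1 := by
        refine Polynomial.map_injective (Int.castRingHom ℤ_[l]) (Int.castRingHom ℤ_[l]).injective_int ?_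
        rw [← hP, Polynomial.map_one]
        exact (LinearMap.charpoly_monic _).natDegree_eq_zero.1
          (by rw [LinearMap.charpoly_natDegree, Module.finrank_zero_of_subsingleton])
      rw [hP1, Polynomial.map_one] at hPh
      exact hh.not_isUnit ((isUnit_pow_iff hn.ne').1 (hPh ▸ isUnit_one))
    obtain ⟨i, -, hi⟩ := (dvd_prime_pow hh.prime n).1 (hPh ▸ hdvd)
    have hsq : Squarefree (h ^ i) := hi.squarefree_iff.1 (squarefree_minpoly φ hc)
    rcases Nat.lt_trichotomy i 1 with h1 | h1 | h1
    · refine absurd ?_ hne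
      rw [Nat.lt_one_iff.1 h1, pow_zero] at hi
      exact Polynomial.eq_of_monic_of_associated (minpoly.monic (Algebra.IsIntegral.isIntegral x)) Polynomial.monic_one hi
    · rw [h1, pow_one] at hi
      exact hi.symm.irreducible hh
    · exfalso
      refine hh.not_isUnit (hsq h ?_)
      exact ⟨h ^ (i - 2), by rw [← pow_two, ← pow_add]; congr 1; omega⟩

end Groth.Agent.AVFrob
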